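import Mathlib

/-! # Homogenisation of a module over a degree zero localization -/

set_option autoImplicit false

universe u

open DirectSum Polynomial

namespace Groth.Agent.HomModLib

variable {R R' : Type u} [CommRing R] [CommRing R'] [Algebra R R']
  {S : Type u} [CommRing S] [Algebra R S] (𝒜 : ℕ → Submodule R S) [GradedAlgebra 𝒜] {f : S} (hf : f ∈ 𝒜 1)
  (e : HomogeneousLocalization.Away 𝒜 f ≃+* R')

theorem mem_nsmul {k : ℕ} {s : S} (hs : s ∈ 𝒜 k) : s ∈ 𝒜 (k • 1) := by
  rwa [smul_eq_mul, mul_one]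

/-- `s / f^k` transported to `R'`. -/
noncomputable def frac (k : ℕ) (s : 𝒜 k) : R' :=
  e (HomogeneousLocalization.Away.mk 𝒜 hf k s.1 (mem_nsmul 𝒜 s.2))

theorem val_symm_frac (k : ℕ) (s : 𝒜 k) :
    (e.symm (frac 𝒜 hf e k s)).val = Localization.mk (s : S) (⟨f ^ k, k, rfl⟩ : Submonoid.powers f) := by
  rw [frac, RingEquiv.symm_apply_apply]; rfl

theorem frac_ext {x y : R'} (h : (e.symm x).val = (e.symm y).val) : x = y :=
  e.symm.injective (HomogeneousLocalization.val_injective _ h)

theorem frac_add (k : ℕ) (s t : 𝒜 k) : frac 𝒜 hf e k (s + t) = frac 𝒜 hf e k s + frac 𝒜 hf e k t := by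
  refine frac_ext 𝒜 e ?_
  rw [map_add, HomogeneousLocalization.val_add, val_symm_frac, val_symm_frac, val_symm_frac,
    Localization.add_mk_self]
  rfl

/-- `s ↦ (s / f^k) X^k` on the degree `k` part. -/
noncomputable def homAux (k : ℕ) : 𝒜 k →+ R'[X] :=
  AddMonoidHom.mk' (fun s => monomial k (frac 𝒜 hf e k s)) fun s t => by
    rw [frac_add, map_add]

/-- The homogenised structure map `S → R'[X]`. -/
noncomputable def homog : S →+* R'[X] :=
  (DirectSum.toSemiring (homAux 𝒜 hf e) (by
      change monomial 0 (frac 𝒜 hf e 0 _) = 1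
      refine Eq.trans (congrArg (monomial (R := R') 0) ?_) monomial_zero_one
      refine frac_ext 𝒜 e ?_
      rw [val_symm_frac, map_one, HomogeneousLocalization.val_one, SetLike.coe_gOne]
      exact (congrArg (Localization.mk (1 : S)) (Subtype.ext (pow_zero f))).trans Localization.mk_one)
    (fun {i j} a b => by
      change monomial (i + j) (frac 𝒜 hf e (i + j) _) = monomial i _ * monomial j _
      rw [monomial_mul_monomial]
      congr 1
      refine frac_ext 𝒜 e ?_
      rw [map_mul, HomogeneousLocalization.val_mul, val_symm_frac, val_symm_frac, val_symm_frac,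
        Localization.mk_mul, SetLike.coe_gMul]
      congr 1
      exact Subtype.ext (pow_add f i j))).comp (DirectSum.decomposeRingEquiv 𝒜).toRingHom

theorem homog_of_mem {k : ℕ} {s : S} (hs : s ∈ 𝒜 k) :
    homog 𝒜 hf e s = monomial k (frac 𝒜 hf e k ⟨s, hs⟩) := by
  rw [homog, RingHom.comp_apply]
  change DirectSum.toSemiring _ _ _ (DirectSum.decompose 𝒜 s) = _
  rw [DirectSum.decompose_of_mem 𝒜 hs, DirectSum.toSemiring_of]
  rfl

theorem coeff_homog (s : S) (k : ℕ) :
    (homog 𝒜 hf e s).coeff k = (homog 𝒜 hf e (DirectSum.decompose 𝒜 s k : S)).coeff k := by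
  classical
  conv_lhs => rw [← DirectSum.sum_support_decompose 𝒜 s, map_sum, finsetSum_coeff]
  rw [Finset.sum_eq_single k]
  · intro b _ hb
    rw [homog_of_mem 𝒜 hf e (SetLike.coe_mem _), coeff_monomial, if_neg hb]
  · intro hk
    rw [DFinsupp.notMem_support_iff.mp hk]
    simp

theorem frac_pow_self (k : ℕ) : frac 𝒜 hf e k ⟨f ^ k, by simpa using SetLike.pow_mem_graded k hf⟩ = 1 := by
  refine frac_ext 𝒜 e ?_
  rw [val_symm_frac, map_one, HomogeneousLocalization.val_one]
  exact Localization.mk_self (⟨f ^ k, k, rfl⟩ : Submonoid.powers f)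

/-- Every element of `R'` is `s / f^k`. -/
theorem exists_frac (r : R') : ∃ k s, frac 𝒜 hf e k s = r := by
  obtain ⟨k, a, ha, h⟩ := HomogeneousLocalization.Away.mk_surjective 𝒜 hf (e.symm r)
  refine ⟨k, ⟨a, by simpa using ha⟩, ?_⟩
  rw [frac]
  exact (congrArg e h).trans (e.apply_symm_apply r)

theorem homog_algebraMap (he : ∀ r : R, (e.symm (algebraMap R R' r)).val = algebraMap S (Localization.Away f) (algebraMap R S r))
    (r : R) : homog 𝒜 hf e (algebraMap R S r) = algebraMap R R'[X] r := by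
  have h0 : algebraMap R S r ∈ 𝒜 0 := SetLike.algebraMap_mem_graded 𝒜 r
  rw [homog_of_mem 𝒜 hf e h0, Polynomial.algebraMap_apply, monomial_zero_left]
  congr 1
  refine frac_ext 𝒜 e ?_
  rw [val_symm_frac, he, ← Localization.mk_one_eq_algebraMap]
  congr 1
  exact Subtype.ext (pow_zero f)

end Groth.Agent.HomModLib
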